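import Mathlib.Algebra.CharP.Lemmas
import Mathlib.Algebra.Group.Hom.End
import Mathlib.Algebra.Group.Subgroup.Map
import Mathlib.GroupTheory.Index
import Mathlib.GroupTheory.QuotientGroup.Basic
import Mathlib.Tactic.Abel
import Mathlib.Tactic.Group

/-!
# Automorphisms with few fixed points

* `restrictEquiv`, `quotientEquiv`: induced automorphisms of invariant subgroups and quotients
* `card_fixed_restrict_le`, `card_fixed_quotient_le`: these fix no more points
* `card_le_fixed_pow`: an elementary abelian group with an automorphism of order `p` fixing `m` points has order at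
  most `m ^ p`
* `card_le_fixed_pow_two`: the same for exponent dividing `p ^ 2` with exponent `2 * p`
-/

set_option autoImplicit false

namespace Cfsg.Agent.AlmostRegular

universe u

variable {G : Type u} [Group G] [Finite G]

/-- The fixed points of an automorphism. -/
def fixed {H : Type u} [Group H] (α : MulAut H) : Subgroup H where
  carrier := {g | α g = g}
  one_mem' := map_one α
  mul_mem' := fun {a b} (ha : α a = a) (hb : α b = b) => show α (a * b) = a * b by rw [map_mul, ha, hb]
  inv_mem' := fun {a} (ha : α a = a) => show α a⁻¹ = a⁻¹ by rw [map_inv, ha]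

theorem mem_fixed {H : Type u} [Group H] {α : MulAut H} {g : H} : g ∈ fixed α ↔ α g = g := Iff.rfl

/-- Invariance of a subgroup. -/
def Invariant (α : MulAut G) (N : Subgroup G) : Prop := ∀ x ∈ N, α x ∈ N

theorem invariant_of_characteristic (α : MulAut G) (N : Subgroup G) [N.Characteristic] : Invariant α N :=
  fun x hx => (Subgroup.characteristic_iff_map_le.1 inferInstance α) ⟨x, hx, rfl⟩

theorem Invariant.inf {α : MulAut G} {N M : Subgroup G} (hN : Invariant α N) (hM : Invariant α M) :
    Invariant α (N ⊓ M) := fun _ hx => ⟨hN _ hx.1, hM _ hx.2⟩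

theorem Invariant.sup {α : MulAut G} {N M : Subgroup G} (hN : Invariant α N) (hM : Invariant α M) :
    Invariant α (N ⊔ M) := fun x hx => by
  have h : (N ⊔ M).map α.toMonoidHom ≤ N ⊔ M := by
    rw [Subgroup.map_sup]
    exact sup_le (le_trans (Subgroup.map_le_iff_le_comap.2 fun y hy => hN y hy) le_sup_left)
      (le_trans (Subgroup.map_le_iff_le_comap.2 fun y hy => hM y hy) le_sup_right)
  exact h ⟨x, hx, rfl⟩

theorem Invariant.symm_mem {α : MulAut G} {N : Subgroup G} (hN : Invariant α N) {x : G} (hx : α x ∈ N) :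
    x ∈ N := by
  have hsur : Function.Surjective (fun y : N => (⟨α y, hN y y.2⟩ : N)) :=
    Finite.surjective_of_injective fun a b h => Subtype.ext (α.injective (congrArg Subtype.val h))
  obtain ⟨y, hy⟩ := hsur ⟨α x, hx⟩
  rw [← α.injective (congrArg Subtype.val hy)]
  exact y.2

/-- The restriction to an invariant subgroup. -/
noncomputable def restrictEquiv (α : MulAut G) (N : Subgroup G) (h : Invariant α N) : MulAut N :=
  MulEquiv.ofBijective
    (MonoidHom.mk' (fun x : N => (⟨α x, h x x.2⟩ : N)) fun a b => Subtype.ext (map_mul α (a : G) b))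
    (Finite.injective_iff_bijective.1 fun a b e => Subtype.ext (α.injective (congrArg Subtype.val e)))

theorem coe_restrictEquiv (α : MulAut G) (N : Subgroup G) (h : Invariant α N) (x : N) :
    (restrictEquiv α N h x : G) = α x := rfl

theorem restrictEquiv_pow (α : MulAut G) (N : Subgroup G) (h : Invariant α N) (k : ℕ) (x : N) :
    (((restrictEquiv α N h) ^ k) x : G) = (α ^ k) x := by
  induction k with
  | zero => rfl
  | succ k ih => rw [pow_succ', pow_succ', MulAut.mul_apply, MulAut.mul_apply, coe_restrictEquiv, ih]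

theorem restrictEquiv_pow_eq_one {α : MulAut G} (N : Subgroup G) (h : Invariant α N) {k : ℕ}
    (hk : α ^ k = 1) : restrictEquiv α N h ^ k = 1 :=
  MulEquiv.ext fun x => Subtype.ext (by rw [restrictEquiv_pow, hk]; rfl)

theorem card_fixed_restrict_le (α : MulAut G) (N : Subgroup G) (h : Invariant α N) :
    Nat.card (fixed (restrictEquiv α N h)) ≤ Nat.card (fixed α) :=
  Nat.card_le_card_of_injective
    (fun x => (⟨((x : N) : G), congrArg Subtype.val (x.2 : restrictEquiv α N h x = x)⟩ : fixed α))
    fun a b e => Subtype.ext (Subtype.ext (congrArg (fun z : fixed α => (z : G)) e))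

/-- The induced automorphism of an invariant quotient. -/
noncomputable def quotientEquiv (α : MulAut G) (N : Subgroup G) [N.Normal] (h : Invariant α N) :
    MulAut (G ⧸ N) :=
  MulEquiv.ofBijective (QuotientGroup.map N N α.toMonoidHom fun x hx => h x hx)
    (Finite.surjective_iff_bijective.1 fun q => by
      obtain ⟨x, rfl⟩ := QuotientGroup.mk'_surjective N q
      exact ⟨QuotientGroup.mk' N (α.symm x), by simp⟩)

theorem quotientEquiv_mk (α : MulAut G) (N : Subgroup G) [N.Normal] (h : Invariant α N) (x : G) :
    quotientEquiv α N h (x : G ⧸ N) = ((α x : G) : G ⧸ N) := rfl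

theorem quotientEquiv_pow_eq_one {α : MulAut G} (N : Subgroup G) [N.Normal] (h : Invariant α N) {k : ℕ}
    (hk : α ^ k = 1) : quotientEquiv α N h ^ k = 1 := by
  have key : ∀ (j : ℕ) (x : G), (quotientEquiv α N h ^ j) (x : G ⧸ N) = (((α ^ j) x : G) : G ⧸ N) := by
    intro j
    induction j with
    | zero => intro x; rfl
    | succ j ih =>
      intro x
      rw [pow_succ', MulAut.mul_apply, ih, quotientEquiv_mk, pow_succ', MulAut.mul_apply]
  refine MulEquiv.ext fun q => ?_
  obtain ⟨x, rfl⟩ := QuotientGroup.mk'_surjective N q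
  show (quotientEquiv α N h ^ k) (x : G ⧸ N) = _
  rw [key, hk]
  rfl

/-- The fixed points on a quotient are at most as many. -/
theorem card_fixed_quotient_le (α : MulAut G) (N : Subgroup G) [N.Normal] (h : Invariant α N) :
    Nat.card (fixed (quotientEquiv α N h)) ≤ Nat.card (fixed α) := by
  classical
  haveI : Fintype G := Fintype.ofFinite G
  let C : Subgroup G := (fixed (quotientEquiv α N h)).comap (QuotientGroup.mk' N)
  have hNC : N ≤ C := fun x hx => by
    show quotientEquiv α N h (x : G ⧸ N) = (x : G ⧸ N)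
    rw [quotientEquiv_mk, (QuotientGroup.eq_one_iff x).2 hx, (QuotientGroup.eq_one_iff _).2 (h x hx)]
  let f : C → N := fun x => ⟨(x : G)⁻¹ * α x, by
    have this : quotientEquiv α N h ((x : G) : G ⧸ N) = ((x : G) : G ⧸ N) := x.2
    rw [quotientEquiv_mk] at this
    exact QuotientGroup.eq.1 this.symm⟩
  have hfib : ∀ n : N, Nat.card {x : C // f x = n} ≤ Nat.card (fixed α) := by
    intro n
    rcases isEmpty_or_nonempty {x : C // f x = n} with hE | ⟨⟨x₀⟩⟩
    · simp
    · refine Nat.card_le_card_of_injective (fun x => (⟨(x.1 : G) * ((x₀.1 : G))⁻¹, ?_⟩ : fixed α)) ?_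
      · have e : (x.1 : G)⁻¹ * α x.1 = (x₀.1 : G)⁻¹ * α x₀.1 :=
          congrArg Subtype.val (x.2.trans x₀.2.symm)
        show α _ = _
        rw [map_mul, map_inv]
        calc α (x.1 : G) * (α (x₀.1 : G))⁻¹
            = (x.1 : G) * ((x.1 : G)⁻¹ * α x.1) * (α (x₀.1 : G))⁻¹ := by group
          _ = (x.1 : G) * ((x₀.1 : G)⁻¹ * α x₀.1) * (α (x₀.1 : G))⁻¹ := by rw [e]
          _ = _ := by group
      · intro a b e
        exact Subtype.ext (Subtype.ext (mul_right_cancel (congrArg (fun z : fixed α => (z : G)) e)))
  have hC : Nat.card C ≤ Nat.card N * Nat.card (fixed α) := by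
    rw [← Nat.card_congr (Equiv.sigmaFiberEquiv f), Nat.card_sigma]
    refine (Finset.sum_le_sum fun n _ => hfib n).trans ?_
    rw [Finset.sum_const, Finset.card_univ, smul_eq_mul, Nat.card_eq_fintype_card (α := N)]
  have hCq : Nat.card C = Nat.card N * Nat.card (fixed (quotientEquiv α N h)) := by
    rw [← Subgroup.card_mul_index (N.subgroupOf C), Nat.card_congr (Subgroup.subgroupOfEquivOfLe hNC).toEquiv]
    congr 1
    show N.relIndex C = _
    rw [show N.relIndex C = (QuotientGroup.mk' N).ker.relIndex C by rw [QuotientGroup.ker_mk'],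
      Subgroup.relIndex_ker, Subgroup.map_comap_eq_self_of_surjective (QuotientGroup.mk'_surjective _)]
  rw [hCq] at hC
  exact Nat.le_of_mul_le_mul_left hC Nat.card_pos

/-- The kernel of an iterate is bounded by a power of the kernel. -/
theorem card_ker_iterate_le {E : Type u} [AddCommGroup E] [Finite E] (δ : AddMonoid.End E) (i : ℕ) :
    Nat.card {x : E // (δ ^ i) x = 0} ≤ Nat.card {x : E // δ x = 0} ^ i := by
  induction i with
  | zero =>
    rw [pow_zero]
    exact (Nat.card_le_card_of_injective (β := Unit) (fun _ => ())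
      fun a b _ => Subtype.ext ((a.2 : (a : E) = 0).trans (b.2 : (b : E) = 0).symm)).trans (by simp)
  | succ i ih =>
    let K : AddSubgroup E := AddMonoidHom.ker (show E →+ E from δ ^ (i + 1))
    let g : K →+ E := (show E →+ E from δ).comp K.subtype
    have h1 : Nat.card K = Nat.card g.range * Nat.card g.ker := by
      rw [← Nat.card_congr (QuotientAddGroup.quotientKerEquivRange g).toEquiv,
        ← AddSubgroup.card_eq_card_quotient_mul_card_addSubgroup]
    have h2 : Nat.card g.range ≤ Nat.card {x : E // (δ ^ i) x = 0} :=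
      Nat.card_le_card_of_injective
        (fun y => (⟨y.1, by
          obtain ⟨x, hx⟩ := y.2
          have hxk : (δ ^ (i + 1)) (x : E) = 0 := x.2
          rw [← hx]
          rwa [pow_succ] at hxk⟩ : {x : E // (δ ^ i) x = 0}))
        fun a b e => Subtype.ext (congrArg (fun z : {x : E // (δ ^ i) x = 0} => (z : E)) e)
    have h3 : Nat.card g.ker ≤ Nat.card {x : E // δ x = 0} :=
      Nat.card_le_card_of_injective (fun y => (⟨((y : K) : E), y.2⟩ : {x : E // δ x = 0}))
        fun a b e => Subtype.ext (Subtype.ext (congrArg (fun z : {x : E // δ x = 0} => (z : E)) e))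
    calc Nat.card {x : E // (δ ^ (i + 1)) x = 0}
        = Nat.card g.range * Nat.card g.ker := h1
      _ ≤ Nat.card {x : E // (δ ^ i) x = 0} * Nat.card {x : E // δ x = 0} := Nat.mul_le_mul h2 h3
      _ ≤ _ := by rw [pow_succ]; exact Nat.mul_le_mul_right _ ih

/-- An elementary abelian group with an automorphism of order `p` fixing `m` points has order at most `m ^ p`. -/
theorem card_le_fixed_pow {p : ℕ} [Fact p.Prime] (hcomm : ∀ a b : G, a * b = b * a)
    (hexp : ∀ a : G, a ^ p = 1) (α : MulAut G) (hα : α ^ p = 1) :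
    Nat.card G ≤ Nat.card (fixed α) ^ p := by
  letI : CommGroup G := { ‹Group G› with mul_comm := hcomm }
  haveI : Finite (Additive G) := Finite.of_equiv G Additive.ofMul
  let a : AddMonoid.End (Additive G) := MonoidHom.toAdditive α.toMonoidHom
  set δ : AddMonoid.End (Additive G) := a - 1 with hδ
  have hpow : ∀ (k : ℕ) (x : Additive G), (a ^ k) x = Additive.ofMul ((α ^ k) x.toMul) := by
    intro k
    induction k with
    | zero => intro x; rfl
    | succ k ih =>
      intro x
      rw [pow_succ', pow_succ', MulAut.mul_apply]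
      show a ((a ^ k) x) = _
      rw [ih]
      rfl
  have hδp : δ ^ p = 0 := by
    obtain ⟨r, hr⟩ := (Commute.one_right δ).exists_add_pow_prime_eq (Fact.out (p := p.Prime))
    rw [hδ, sub_add_cancel, ← hδ, one_pow, mul_one] at hr
    refine AddMonoidHom.ext fun x => ?_
    have h1 : (a ^ p) x = (δ ^ p) x + x + ((p : AddMonoid.End (Additive G)) * δ * r) x :=
      DFunLike.congr_fun hr x
    rw [hpow, hα] at h1
    have h2 : ((p : AddMonoid.End (Additive G)) * δ * r) x = 0 := by
      rw [mul_assoc, AddMonoid.End.coe_mul, Function.comp_apply, AddMonoid.End.natCast_apply]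
      exact congrArg Additive.ofMul (hexp _)
    rw [h2, add_zero] at h1
    have h3 : x = (δ ^ p) x + x := h1
    exact add_eq_right.1 h3.symm
  calc Nat.card G = Nat.card {x : Additive G // (δ ^ p) x = 0} :=
        Nat.card_congr (Additive.ofMul.trans (Equiv.subtypeUnivEquiv fun x => by rw [hδp]; rfl).symm)
    _ ≤ Nat.card {x : Additive G // δ x = 0} ^ p := card_ker_iterate_le δ p
    _ ≤ _ := by
        refine Nat.pow_le_pow_left (Nat.card_le_card_of_injective
          (fun x => (⟨x.1.toMul, ?_⟩ : fixed α)) fun u v e => Subtype.ext ?_) p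
        · have h : a x.1 - x.1 = 0 := x.2
          exact congrArg Additive.toMul (sub_eq_zero.1 h)
        · exact Additive.toMul.injective (congrArg (fun z : fixed α => (z : G)) e)

/-- An abelian group of exponent dividing `p ^ 2`. -/
theorem card_le_fixed_pow_two {p : ℕ} [Fact p.Prime] (hcomm : ∀ a b : G, a * b = b * a)
    (hexp : ∀ a : G, (a ^ p) ^ p = 1) (α : MulAut G) (hα : α ^ p = 1) :
    Nat.card G ≤ Nat.card (fixed α) ^ (2 * p) := by
  letI : CommGroup G := { ‹Group G› with mul_comm := hcomm }
  let f : G →* G := powMonoidHom p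
  have hk : Invariant α f.ker := fun x (hx : x ^ p = 1) => show (α x) ^ p = 1 by rw [← map_pow, hx, map_one]
  have hr : Invariant α f.range := by
    rintro x ⟨y, rfl⟩
    exact ⟨α y, (map_pow α y p).symm⟩
  have h1 : Nat.card f.ker ≤ Nat.card (fixed α) ^ p :=
    (card_le_fixed_pow (fun a b => Subtype.ext (hcomm a b)) (fun a => Subtype.ext a.2)
      (restrictEquiv α f.ker hk) (restrictEquiv_pow_eq_one _ hk hα)).trans
        (Nat.pow_le_pow_left (card_fixed_restrict_le α f.ker hk) p)
  have h2 : Nat.card f.range ≤ Nat.card (fixed α) ^ p :=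
    (card_le_fixed_pow (fun a b => Subtype.ext (hcomm a b)) (fun a => Subtype.ext (by
      obtain ⟨y, hy⟩ := a.2
      show (a : G) ^ p = 1
      rw [← hy]
      exact hexp y))
      (restrictEquiv α f.range hr) (restrictEquiv_pow_eq_one _ hr hα)).trans
        (Nat.pow_le_pow_left (card_fixed_restrict_le α f.range hr) p)
  rw [Subgroup.card_eq_card_quotient_mul_card_subgroup f.ker,
    Nat.card_congr (QuotientGroup.quotientKerEquivRange f).toEquiv, two_mul, pow_add]
  exact Nat.mul_le_mul h2 h1

end Cfsg.Agent.AlmostRegular
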