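import Cfsg.Agent.Lib.AlmostRegular.Fixed
import Cfsg.Agent.Lib.LieGraded.Fpf
import Mathlib.GroupTheory.Solvable

/-!
# Almost regular automorphisms of prime order and the associated Lie ring

`pow_mem_gam_of_mem_derivedSeries`: if `G` is a finite `p`-group, `α ^ p = 1` and `α` fixes at most `p ^ n` points,
then with `K = 2 ^ (p - 1) - 1` the `p ^ lieExp p n`-th powers of the `K`-th derived subgroup lie in `γ_{2 ^ K}`
(lower central series indexed from `0`).
-/

set_option autoImplicit false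

namespace Cfsg.Agent.AlmostRegular

open LieGraded
open scoped commutatorElement

universe u

variable {L : Type u} [AddCommGroup L] {p : ℕ}

/-- The derived length bound of Kreknin. -/
def kreknin (p : ℕ) : ℕ := 2 ^ (p - 1) - 1

/-- The exponent of the annihilator. -/
def lieExp (p n : ℕ) : ℕ := (n + 1) * 2 ^ kreknin p + n

/-- `∑ φ^i x` is fixed, so modulo constants `p * M` times a delta function is a sum of eigenfunctions. -/
theorem single_nsmul_mem' [Fact p.Prime] {φ : L →+ L} (hp : (⇑φ)^[p] = id) {M : ℕ}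
    (hfix : ∀ x, φ x = x → M • x = 0) (x : L) :
    Pi.single (0 : ZMod p) ((p * M) • x) ∈ (⨆ a : ZMod p, shiftSpace φ a) ⊔ constants p L := by
  classical
  have hone : (1 : ZMod p).val = 1 := by
    have : Fact (1 < p) := ⟨(Fact.out : p.Prime).one_lt⟩
    exact ZMod.val_one p
  let y : L := M • x
  let f : ZMod p → ZMod p → L := fun a j => (⇑φ)^[(-j * a⁻¹).val] y
  have hf : ∀ a, a ≠ 0 → f a ∈ shiftSpace φ a := by
    intro a ha j
    show φ ((⇑φ)^[(-j * a⁻¹).val] y) = (⇑φ)^[(-(j - a) * a⁻¹).val] y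
    rw [show -(j - a) * a⁻¹ = 1 + -j * a⁻¹ by rw [neg_sub, sub_mul, mul_inv_cancel₀ ha]; ring,
      ← iterate_val_add hp, hone, Function.iterate_one]
  have hnorm : ∑ i : ZMod p, (⇑φ)^[i.val] y = 0 := by
    have h1 : ∀ i : ZMod p, (⇑φ)^[i.val] y = M • (⇑φ)^[i.val] x := fun i =>
      iterate_map_nsmul φ _ _ _
    rw [Finset.sum_congr rfl fun i _ => h1 i, ← Finset.smul_sum]
    refine hfix _ ?_
    rw [map_sum, ← Equiv.sum_comp (Equiv.addLeft (1 : ZMod p)) (fun i => (⇑φ)^[i.val] x)]
    refine Finset.sum_congr rfl fun i _ => ?_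
    rw [Equiv.coe_addLeft, ← iterate_val_add hp, hone, Function.iterate_one]
  have hkey : Pi.single (0 : ZMod p) (p • y) =
      (∑ a ∈ Finset.univ.erase (0 : ZMod p), f a) + Pi.constAddMonoidHom (ZMod p) L y := by
    funext j
    rw [Pi.add_apply, Finset.sum_apply]
    show _ = _ + y
    by_cases hj : j = 0
    · subst hj
      have : ∀ a ∈ Finset.univ.erase (0 : ZMod p), f a 0 = y := fun a _ => by simp [f]
      rw [Finset.sum_congr rfl this, Finset.sum_const, Finset.card_erase_of_mem (Finset.mem_univ _),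
        Finset.card_univ, ZMod.card, ← succ_nsmul, Nat.sub_add_cancel (Fact.out : p.Prime).pos,
        Pi.single_eq_same]
    · have h1 : ∑ a ∈ Finset.univ.erase (0 : ZMod p), f a j =
          ∑ i ∈ Finset.univ.erase (0 : ZMod p), (⇑φ)^[i.val] y := by
        refine Finset.sum_nbij' (fun a => -j * a⁻¹) (fun i => -j * i⁻¹) ?_ ?_ ?_ ?_ ?_
        · intro a ha; simp at ha ⊢; exact ⟨hj, ha⟩
        · intro a ha; simp at ha ⊢; exact ⟨hj, ha⟩
        · intro a ha
          simp only [mul_inv, inv_inv]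
          rw [← mul_assoc, mul_inv_cancel₀ (neg_ne_zero.2 hj), one_mul]
        · intro a ha
          simp only [mul_inv, inv_inv]
          rw [← mul_assoc, mul_inv_cancel₀ (neg_ne_zero.2 hj), one_mul]
        · intro a _; rfl
      have h2 := Finset.add_sum_erase _ (fun i : ZMod p => (⇑φ)^[i.val] y) (Finset.mem_univ (0 : ZMod p))
      simp only [ZMod.val_zero, Function.iterate_zero, id_eq] at h2
      rw [h1, Pi.single_eq_of_ne hj, add_comm, h2, hnorm]
  rw [mul_nsmul' x p M, hkey]
  exact add_mem (AddSubgroup.mem_sup_left (sum_mem fun a ha =>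
    AddSubgroup.mem_iSup_of_mem a (hf a (Finset.ne_of_mem_erase ha))))
    (AddSubgroup.mem_sup_right ⟨y, rfl⟩)

theorem conv_mem_derStep [NeZero p] (B : L →+ L →+ L) (D : ZMod p → AddSubgroup (ZMod p → L)) (k : ℕ)
    {f g : ZMod p → L} (hf : f ∈ (⨆ c, derSeries (conv B) D k c) ⊔ constants p L)
    (hg : g ∈ (⨆ c, derSeries (conv B) D k c) ⊔ constants p L) :
    conv B f g ∈ (⨆ c, derSeries (conv B) D (k + 1) c) ⊔ constants p L := by
  obtain ⟨f1, hf1, f2, hf2, rfl⟩ := AddSubgroup.mem_sup.1 hf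
  obtain ⟨g1, hg1, g2, hg2, rfl⟩ := AddSubgroup.mem_sup.1 hg
  rw [map_add (conv B) f1 f2, AddMonoidHom.add_apply, map_add (conv B f1) g1 g2]
  refine add_mem (add_mem (AddSubgroup.mem_sup_left ?_)
    (AddSubgroup.mem_sup_right (conv_constants_right B f1 hg2)))
    (AddSubgroup.mem_sup_right (conv_constants_left B hf2 _))
  refine AddSubgroup.iSup_induction _ (C := fun f1 =>
    conv B f1 g1 ∈ ⨆ c, derSeries (conv B) D (k + 1) c) hf1 (fun a x hx => ?_)
    (by simp) (fun x y hx hy => by rw [map_add, AddMonoidHom.add_apply]; exact add_mem hx hy)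
  refine AddSubgroup.iSup_induction _ (C := fun g1 =>
    conv B x g1 ∈ ⨆ c, derSeries (conv B) D (k + 1) c) hg1 (fun b y hy => ?_)
    (by simp) (fun y z hy hz => by rw [map_add]; exact add_mem hy hz)
  exact AddSubgroup.mem_iSup_of_mem (a + b) (mem_brFam hx hy)

/-- Kreknin's theorem when the zero component is annihilated by `M`. -/
theorem nsmul_eq_zero_of_mem_derSeries [NeZero p] {B : L →+ L →+ L} {D : ZMod p → AddSubgroup L}
    (hskew : ∀ x y, B x y = - B y x) (hjac : ∀ x y z, B (B x y) z = B (B x z) y + B x (B y z))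
    (hmul : brFam B D D ≤ D) {M : ℕ} (hzero : ∀ x ∈ D 0, M • x = 0) :
    ∀ c, ∀ x ∈ derSeries B D (kreknin p) c, M • x = 0 := by
  let I : AddSubgroup L := (nsmulAddMonoidHom M : L →+ L).ker
  let π : L →+ L ⧸ I := QuotientAddGroup.mk' I
  have hI : ∀ x, π x = 0 ↔ M • x = 0 := fun x => QuotientAddGroup.eq_zero_iff x
  let B₁ : L →+ (L ⧸ I) →+ (L ⧸ I) := AddMonoidHom.mk'
    (fun x => QuotientAddGroup.map I I (B x) fun y (hy : M • y = 0) => by
      show M • (B x y) = 0
      rw [← map_nsmul, hy, map_zero])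
    fun x x' => AddMonoidHom.ext fun q => by
      obtain ⟨y, rfl⟩ := QuotientAddGroup.mk'_surjective I q
      show π (B (x + x') y) = π (B x y) + π (B x' y)
      rw [map_add B, AddMonoidHom.add_apply, map_add]
  let B' : (L ⧸ I) →+ (L ⧸ I) →+ (L ⧸ I) := QuotientAddGroup.lift I B₁ fun x (hx : M • x = 0) =>
    AddMonoidHom.ext fun q => by
      obtain ⟨y, rfl⟩ := QuotientAddGroup.mk'_surjective I q
      show π (B x y) = 0
      rw [hI, ← AddMonoidHom.nsmul_apply, ← map_nsmul, hx, map_zero, AddMonoidHom.zero_apply]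
  have hB : ∀ x y, B' (π x) (π y) = π (B x y) := fun _ _ => rfl
  let D' : ZMod p → AddSubgroup (L ⧸ I) := fun c => (D c).map π
  have hD : IsGrading B' D' := by
    refine ⟨fun a b => ?_, fun a b c => ?_, brFam_le fun a b x hx y hy => ?_, ?_⟩
    · obtain ⟨x, rfl⟩ := QuotientAddGroup.mk'_surjective I a
      obtain ⟨y, rfl⟩ := QuotientAddGroup.mk'_surjective I b
      rw [hB, hB, ← map_neg, hskew]
    · obtain ⟨x, rfl⟩ := QuotientAddGroup.mk'_surjective I a
      obtain ⟨y, rfl⟩ := QuotientAddGroup.mk'_surjective I b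
      obtain ⟨z, rfl⟩ := QuotientAddGroup.mk'_surjective I c
      rw [hB, hB, hB, hB, hB, hB, ← map_add, hjac]
    · obtain ⟨x, hx, rfl⟩ := hx
      obtain ⟨y, hy, rfl⟩ := hy
      rw [hB]
      exact ⟨_, hmul _ (mem_brFam hx hy), rfl⟩
    · refine (AddSubgroup.eq_bot_iff_forall _).2 ?_
      rintro _ ⟨x, hx, rfl⟩
      exact (hI x).2 (hzero x hx)
  have himg : ∀ k c, ∀ x ∈ derSeries B D k c, π x ∈ derSeries B' D' k c := by
    intro k
    induction k with
    | zero => exact fun c x hx => ⟨x, hx, rfl⟩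
    | succ k ih =>
      intro c x hx
      induction hx using AddSubgroup.closure_induction with
      | mem z hz =>
        obtain ⟨a, b, rfl, x, hx, y, hy, rfl⟩ := hz
        rw [← hB]
        exact mem_brFam (ih a x hx) (ih b y hy)
      | zero => rw [map_zero]; exact zero_mem _
      | add u v _ _ hu hv => rw [map_add]; exact add_mem hu hv
      | neg u _ hu => rw [map_neg]; exact neg_mem hu
  intro c x hx
  rw [← hI]
  have h1 := himg _ c x hx
  rw [show kreknin p = 2 ^ (p - 1) - 1 from rfl, derSeries_eq_bot hD (isGradedSub_self hD)] at h1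
  exact h1

variable {G : Type u} [Group G] [Finite G] [Fact p.Prime]

theorem nsmul_eq_zero_of_layer_fixed (hG : IsPGroup p G) {α : MulAut G} {n : ℕ}
    (hfix : Nat.card (fixed α) ≤ p ^ n) (i : ℕ) (q : Layer G i) (hq : layerMap α i q = q) :
    p ^ n • q = 0 := by
  obtain ⟨x, hx, rfl⟩ := exists_cls q
  let γ := gam G i
  let γ' := (gam G (i + 1)).subgroupOf γ
  let a := restrictEquiv α γ fun y hy => gam_map_mem α hy
  have hinv : Invariant a γ' := fun y hy => Subgroup.mem_subgroupOf.2 (gam_map_mem α (Subgroup.mem_subgroupOf.1 hy))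
  let qa := quotientEquiv a γ' hinv
  rw [layerMap_cls] at hq
  have hmem : (⟨x, hx⟩ : γ) ∈ (fixed qa).comap (QuotientGroup.mk' γ') := by
    show qa ((⟨x, hx⟩ : γ) : γ ⧸ γ') = ((⟨x, hx⟩ : γ) : γ ⧸ γ')
    rw [quotientEquiv_mk]
    exact congrArg Additive.toMul hq
  have hcard : Nat.card (fixed qa) ≤ p ^ n :=
    (card_fixed_quotient_le a γ' hinv).trans ((card_fixed_restrict_le α γ _).trans hfix)
  obtain ⟨j, hj⟩ := ((hG.to_subgroup γ).to_quotient γ' |>.to_subgroup (fixed qa)).exists_card_eq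
  have hjn : j ≤ n := by
    rw [hj] at hcard
    exact (Nat.pow_le_pow_iff_right (Fact.out : p.Prime).one_lt).1 hcard
  have h1 : (⟨QuotientGroup.mk' γ' ⟨x, hx⟩, hmem⟩ : fixed qa) ^ p ^ n = 1 := by
    rw [← orderOf_dvd_iff_pow_eq_one]
    exact orderOf_dvd_natCard _ |>.trans (hj ▸ pow_dvd_pow p hjn)
  rw [cls, ← ofMul_pow, ofMul_eq_zero]
  exact congrArg Subtype.val h1

/-- The `p ^ lieExp p n`-th powers of the derived subgroup lie deep in the lower central series. -/
theorem pow_mem_gam_of_mem_derivedSeries (hG : IsPGroup p G) (α : MulAut G) (hα : α ^ p = 1) {n : ℕ}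
    (hfix : Nat.card (fixed α) ≤ p ^ n) {x : G} (hx : x ∈ derivedSeries G (kreknin p)) :
    x ^ p ^ lieExp p n ∈ gam G (2 ^ kreknin p) := by
  classical
  set K := kreknin p with hK
  set m := 2 ^ K with hm
  let φ := ringMap α m
  have hfixφ : ∀ f, φ f = f → p ^ n • f = 0 := fun f hf => funext fun i => by
    rw [Pi.smul_apply]
    exact nsmul_eq_zero_of_layer_fixed hG hfix i (f i) (congrFun hf i)
  have hφp : (⇑φ)^[p] = id := by
    have hiter : ∀ k j y (hy : y ∈ gam G j), (⇑φ)^[k] (gen m j y hy) =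
        gen m j ((α ^ k) y) (gam_map_mem _ hy) := by
      intro k
      induction k with
      | zero => intro j y hy; exact gen_congr rfl (by simp) _ _
      | succ k ih =>
        intro j y hy
        rw [Function.iterate_succ_apply', ih, ringMap_gen]
        exact gen_congr rfl (by rw [pow_succ']; rfl) _ _
    funext f
    induction f using ring_induction with
    | h0 => simp [Function.iterate_fixed (map_zero φ)]
    | hadd f g hf hg => rw [iterate_map_add φ, hf, hg]; rfl
    | hgen j y hy => rw [hiter]; exact gen_congr rfl (by simp [hα]) _ _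
  let Q : ℕ → AddSubgroup (ZMod p → Ring G m) := fun k =>
    (⨆ c, derSeries (conv (bracket G m)) (shiftSpace φ) k c) ⊔ constants p (Ring G m)
  let T : ℕ → AddSubgroup (Ring G m) := fun k =>
    (Q k).comap ((AddMonoidHom.single (fun _ : ZMod p => Ring G m) 0).comp
      (nsmulAddMonoidHom ((p * p ^ n) ^ 2 ^ k)))
  have hT : ∀ k w, w ∈ T k ↔ Pi.single (0 : ZMod p) ((p * p ^ n) ^ 2 ^ k • w) ∈ Q k := fun k w => Iff.rfl
  have hgen : ∀ k, ∀ y ∈ derivedSeries G k, ∃ hy : y ∈ gam G (2 ^ k - 1), gen m (2 ^ k - 1) y hy ∈ T k := by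
    intro k
    induction k with
    | zero =>
      intro y _
      refine ⟨Subgroup.mem_top y, ?_⟩
      rw [hT]
      show Pi.single (0 : ZMod p) ((p * p ^ n) ^ 1 • gen m 0 y (Subgroup.mem_top y)) ∈ Q 0
      rw [pow_one]
      exact single_nsmul_mem' hφp hfixφ _
    | succ k ih =>
      intro y hy
      rw [derivedSeries_succ, Subgroup.commutator_def] at hy
      induction hy using Subgroup.closure_induction with
      | mem z hz =>
        obtain ⟨a, ha, b, hb, rfl⟩ := hz
        obtain ⟨ha', haT⟩ := ih a ha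
        obtain ⟨hb', hbT⟩ := ih b hb
        have he : 2 ^ (k + 1) - 1 = (2 ^ k - 1) + (2 ^ k - 1) + 1 := by
          have := Nat.one_le_two_pow (n := k)
          rw [pow_succ]
          omega
        refine ⟨comm_mem_gam G he.symm ha' hb', ?_⟩
        rw [gen_congr he rfl (comm_mem_gam G he.symm ha' hb') (comm_mem_gam G rfl ha' hb'),
          ← bracket_gen ha' hb', hT]
        have h1 := conv_mem_derStep (bracket G m) (shiftSpace φ) k ((hT k _).1 haT) ((hT k _).1 hbT)
        rw [conv_single, add_zero, map_nsmul, map_nsmul, AddMonoidHom.nsmul_apply, smul_smul,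
          ← pow_add] at h1
        rwa [show 2 ^ (k + 1) = 2 ^ k + 2 ^ k by rw [pow_succ]; omega]
      | one => exact ⟨one_mem _, by rw [gen_zero (one_mem _)]; exact zero_mem _⟩
      | mul a b _ _ h1 h2 =>
        obtain ⟨ha', haT⟩ := h1
        obtain ⟨hb', hbT⟩ := h2
        exact ⟨mul_mem ha' hb', by rw [gen_mul ha' hb']; exact add_mem haT hbT⟩
      | inv a _ h1 =>
        obtain ⟨ha', haT⟩ := h1
        exact ⟨inv_mem ha', by rw [gen_inv ha']; exact neg_mem haT⟩
  obtain ⟨hxg, hxT⟩ := hgen K x hx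
  have hskew : ∀ f g, conv (p := p) (bracket G m) f g = - conv (bracket G m) g f := conv_skew bracket_skew
  have hmul : brFam (conv (bracket G m)) (shiftSpace (p := p) φ) (shiftSpace φ) ≤ shiftSpace φ :=
    brFam_le fun a b f hf g hg j => by
      show φ (conv (bracket G m) f g j) = conv (bracket G m) f g (j - (a + b))
      rw [conv_apply, conv_apply, map_sum, ← Equiv.sum_comp (Equiv.subRight a)
        (fun i => bracket G m (f i) (g (j - (a + b) - i)))]
      refine Finset.sum_congr rfl fun i _ => ?_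
      rw [ringMap_bracket α, hf i, hg (j - i), Equiv.subRight_apply]
      congr 2
      ring
  have hzero : ∀ f ∈ shiftSpace (p := p) φ 0, p ^ n • f = 0 := fun f hf => funext fun j => by
    rw [Pi.smul_apply]
    refine hfixφ _ ?_
    have := hf j
    rwa [sub_zero] at this
  have hkill := nsmul_eq_zero_of_mem_derSeries (p := p) hskew (conv_jacobi bracket_jacobi) hmul hzero
  have hQK : ∀ f ∈ Q K, ∃ c : Ring G m, p ^ n • f = Function.const (ZMod p) c := by
    intro f hf
    obtain ⟨f1, hf1, f2, ⟨c, rfl⟩, rfl⟩ := AddSubgroup.mem_sup.1 hf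
    refine ⟨p ^ n • c, ?_⟩
    have h0 : p ^ n • f1 = 0 := AddSubgroup.iSup_induction _ (C := fun f1 => p ^ n • f1 = 0) hf1
      (fun a y hy => hkill a y hy) (smul_zero _) fun y z hy hz => by rw [smul_add, hy, hz, add_zero]
    rw [smul_add, h0, zero_add]
    rfl
  obtain ⟨c, hc⟩ := hQK _ ((hT K _).1 hxT)
  have : Fact (1 < p) := ⟨(Fact.out : p.Prime).one_lt⟩
  have h1 := congrFun hc 1
  rw [Pi.smul_apply, Pi.single_eq_of_ne one_ne_zero, smul_zero, Function.const_apply] at h1
  have h0 := congrFun hc 0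
  rw [Pi.smul_apply, Pi.single_eq_same, Function.const_apply, ← h1, smul_smul] at h0
  have hN : p ^ n * (p * p ^ n) ^ 2 ^ K = p ^ lieExp p n := by
    rw [lieExp, ← hK, ← pow_succ', ← pow_mul, ← pow_add, add_comm]
  have hlt : 2 ^ K - 1 < m := by have := Nat.one_le_two_pow (n := K); omega
  rw [hN, gen_of_lt hlt] at h0
  have h2 := congrFun h0 ⟨2 ^ K - 1, hlt⟩
  rw [Pi.smul_apply, Pi.single_eq_same, Pi.zero_apply] at h2
  rw [cls, ← ofMul_pow, ofMul_eq_zero, ← map_pow] at h2
  have h3 := Subgroup.mem_subgroupOf.1 ((QuotientGroup.eq_one_iff _).1 h2)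
  rw [show 2 ^ K - 1 + 1 = m by omega, SubmonoidClass.coe_pow] at h3
  exact h3

end Cfsg.Agent.AlmostRegular
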