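import Cfsg.Agent.Lib.AlmostRegular.PGroup
import Cfsg.Agent.Lib.HallHigman.Linear
import Cfsg.Agent.Lib.PComplement.FixedPointFree

/-!
# Solvable groups with an almost regular automorphism of prime order

`derivedSeries_solvable_eq_bot`: a finite solvable group with an automorphism of order `p` fixing exactly `p ^ n`
points has derived length at most `solvableBound p n`.
-/

set_option autoImplicit false
set_option linter.style.haveILetI false

namespace Cfsg.Agent.AlmostRegular

open Cfsg

universe u

variable {p : ℕ} [hp : Fact p.Prime]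

/-- The Higman–Kreknin–Kostrikin bound. -/
def fpfBound (p : ℕ) : ℕ := Finset.sum (Finset.range (2 ^ (p - 1) - 1)) fun i => (p - 1) ^ i

/-- The bound for the derived length. -/
def solvableBound (p n : ℕ) : ℕ := fpfBound p + (pgroupBound p n + ((p ^ n) ^ p).factorial)

theorem derivedSeries_fpf_eq_bot {G : Type u} [Group G] [Finite G] (α : MulAut G) (hα : α ^ p = 1)
    (hfpf : ∀ g, α g = g → g = 1) : derivedSeries G (fpfBound p) = ⊥ := by
  have hnil : Group.IsNilpotent G := PComplement.isNilpotent_of_fpf G α hα hfpf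
  have hcop := LieGraded.coprime_card_of_fpf α hα hfpf
  exact le_bot_iff.1 ((Subgroup.derived_le_lower_central (fpfBound p)).trans
    (LieGraded.gam_eq_bot_of_fpf α hα hfpf hcop _ fun B D hD =>
      LieGraded.lowerSeries_eq_bot_of_derSeries hD _ D (LieGraded.isGradedSub_self hD)
        (LieGraded.derSeries_eq_bot hD (LieGraded.isGradedSub_self hD))).le)

/-- The case of trivial `O_{p'}`. -/
theorem derivedSeries_eq_bot_of_pPrimeCore_eq_bot {Q : Type u} [Group Q] [Finite Q] [Group.IsSolvable Q]
    (hbot : pPrimeCore p Q = ⊥) (β : MulAut Q) (hβ : β ^ p = 1) {n : ℕ}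
    (hfix : Nat.card (fixed β) ≤ p ^ n) :
    derivedSeries Q (pgroupBound p n + ((p ^ n) ^ p).factorial) = ⊥ := by
  set O := pCore p Q with hO
  have hOinv : Invariant β O := invariant_of_characteristic β O
  set F := (frattini ↥O).map O.subtype with hF
  haveI hFn : F.Normal := inferInstance
  obtain ⟨hFO, hEA, -, hC⟩ :=
    HallHigman.frattini_quotient_facts (p := p) PCore.isPSolvable_of_isSolvable hbot F hF
  have hFinv : Invariant β F := by
    rintro _ ⟨y, hy, rfl⟩
    exact ⟨restrictEquiv β O hOinv y, invariant_of_characteristic _ _ y hy, rfl⟩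
  set E := O.map (QuotientGroup.mk' F) with hE
  haveI hEn : E.Normal := Subgroup.Normal.map inferInstance _ (QuotientGroup.mk'_surjective F)
  set γ := quotientEquiv β F hFinv with hγ
  have hEinv : Invariant γ E := by
    rintro _ ⟨x, hx, rfl⟩
    exact ⟨β x, hOinv x hx, rfl⟩
  have hγp : γ ^ p = 1 := quotientEquiv_pow_eq_one _ _ hβ
  have hcard : Nat.card E ≤ (p ^ n) ^ p :=
    (card_le_fixed_pow (fun a b => hEA.1.is_comm.comm a b) (fun a => Subtype.ext (hEA.2 _ a.2))
      (restrictEquiv γ E hEinv) (restrictEquiv_pow_eq_one _ _ hγp)).trans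
      (Nat.pow_le_pow_left ((card_fixed_restrict_le γ E hEinv).trans
        ((card_fixed_quotient_le β F hFinv).trans hfix)) p)
  have hindex : O.index ≤ ((p ^ n) ^ p).factorial := by
    rw [← Subgroup.index_map_eq O (QuotientGroup.mk'_surjective F) (by rwa [QuotientGroup.ker_mk']), ← hE]
    exact (Nat.le_of_dvd (Nat.pos_of_ne_zero Subgroup.index_ne_zero_of_finite)
      (Subgroup.index_dvd_of_le hC)).trans ((index_centralizer_le E).trans (Nat.factorial_le hcard))
  exact derivedSeries_add_eq_bot O (derivedSeries_le_of_index_le O hindex)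
    (derivedSeries_pgroup_eq_bot PCore.isPGroup_pCore (restrictEquiv β O hOinv)
      (restrictEquiv_pow_eq_one _ _ hβ) ((card_fixed_restrict_le β O hOinv).trans hfix))

/-- **Alperin's theorem.** -/
theorem derivedSeries_solvable_eq_bot {G : Type u} [Group G] [Finite G] [Group.IsSolvable G] (α : MulAut G)
    (hα : α ^ p = 1) {n : ℕ} (hfix : Nat.card (fixed α) = p ^ n) :
    derivedSeries G (solvableBound p n) = ⊥ := by
  set N := pPrimeCore p G with hN
  have hNinv : Invariant α N := invariant_of_characteristic α N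
  have hfpf : ∀ x, restrictEquiv α N hNinv x = x → x = 1 := by
    intro x hx
    have hxf : (x : G) ∈ fixed α := congrArg Subtype.val hx
    have h1 : orderOf (x : G) ∣ p ^ n := hfix ▸ (fixed α).orderOf_dvd_natCard hxf
    have h2 : orderOf (x : G) ∣ Nat.card N := N.orderOf_dvd_natCard x.2
    have h3 : Nat.Coprime (Nat.card N) (p ^ n) :=
      (PCore.coprime_card_pPrimeCore : (Nat.card N).Coprime p).pow_right n
    exact Subtype.ext (orderOf_eq_one_iff.1 (Nat.eq_one_of_dvd_coprimes h3 h2 h1))
  have hNbot := derivedSeries_fpf_eq_bot (restrictEquiv α N hNinv) (restrictEquiv_pow_eq_one _ _ hα) hfpf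
  have hQ := derivedSeries_eq_bot_of_pPrimeCore_eq_bot (p := p) PCore.pPrimeCore_quotient_self_eq_bot
    (quotientEquiv α N hNinv) (quotientEquiv_pow_eq_one _ _ hα)
    ((card_fixed_quotient_le α N hNinv).trans hfix.le)
  rw [← map_derivedSeries_eq (QuotientGroup.mk'_surjective N), Powerful.map_mk'_eq_bot] at hQ
  exact derivedSeries_add_eq_bot N hQ hNbot

end Cfsg.Agent.AlmostRegular
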