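import Cfsg.Agent.Lib.AlmostRegular.Uniform
import Mathlib.Data.Set.Finite.Lemmas
import Mathlib.Data.Finite.Perm

/-!
# p-groups with an almost regular automorphism of order p

* `derivedSeries_card_eq_bot`: a finite solvable group `G` has derived length at most `|G|`
* `derivedSeries_pgroup_eq_bot`: the derived length of a finite `p`-group with an automorphism of order `p` fixing
  at most `p ^ n` points is at most `pgroupBound p n`
-/

set_option autoImplicit false

namespace Cfsg.Agent.AlmostRegular

open Powerful
set_option linter.style.haveILetI false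

open scoped commutatorElement

universe u

/-- A finite solvable group has derived length at most its order. -/
theorem derivedSeries_card_eq_bot (G : Type u) [Group G] [Finite G] [hs : Group.IsSolvable G] :
    derivedSeries G (Nat.card G) = ⊥ := by
  have key : ∀ k, derivedSeries G k = ⊥ ∨ Nat.card (derivedSeries G k) + k ≤ Nat.card G := by
    intro k
    induction k with
    | zero => exact Or.inr (Subgroup.card_le_card_group _)
    | succ k ih =>
      rcases ih with h | h
      · exact Or.inl (le_bot_iff.1 (h ▸ derivedSeries_antitone G (Nat.le_succ k)))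
      rcases eq_or_ne (derivedSeries G (k + 1)) (derivedSeries G k) with he | hne
      · left
        have hconst : ∀ j, derivedSeries G (k + j) = derivedSeries G k := by
          intro j
          induction j with
          | zero => rfl
          | succ j ihj => rw [← add_assoc, derivedSeries_succ, ihj, ← derivedSeries_succ, he]
        obtain ⟨N, hN⟩ := (Group.isSolvable_def G).1 hs
        rw [he, ← hconst N]
        exact le_bot_iff.1 (hN ▸ derivedSeries_antitone G (Nat.le_add_left N k))
      · right
        have hle := derivedSeries_antitone G (Nat.le_succ k)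
        have hlt : Nat.card (derivedSeries G (k + 1)) < Nat.card (derivedSeries G k) :=
          lt_of_not_ge fun hge => hne (Subgroup.eq_of_le_of_card_ge hle hge)
        omega
  rcases key (Nat.card G) with h | h
  · exact h
  · have h1 : 0 < Nat.card (derivedSeries G (Nat.card G)) := Nat.card_pos
    omega

/-- If `|G : T| ≤ b` and `G / T` is solvable then `G^(b) ≤ T`. -/
theorem derivedSeries_le_of_index_le {G : Type u} [Group G] (T : Subgroup G) [T.Normal] [Finite (G ⧸ T)]
    [Group.IsSolvable (G ⧸ T)] {b : ℕ} (hb : T.index ≤ b) : derivedSeries G b ≤ T := by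
  rw [← map_mk'_eq_bot, map_derivedSeries_eq (QuotientGroup.mk'_surjective T)]
  exact le_bot_iff.1 ((derivedSeries_antitone _ hb).trans (derivedSeries_card_eq_bot (G ⧸ T)).le)

/-- The index of the centralizer of a normal subgroup. -/
theorem index_centralizer_le {Q : Type u} [Group Q] [Finite Q] (M : Subgroup Q) [M.Normal] :
    (Subgroup.centralizer (M : Set Q)).index ≤ (Nat.card M).factorial := by
  have hker : (MulAut.conjNormal : Q →* MulAut M).ker = Subgroup.centralizer (M : Set Q) := by
    ext g
    rw [MonoidHom.mem_ker, Subgroup.mem_centralizer_iff]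
    constructor
    · intro hg m hm
      have h1 : g * m * g⁻¹ = m := by
        have h0 := congrArg Subtype.val (DFunLike.congr_fun hg ⟨m, hm⟩)
        rwa [MulAut.conjNormal_apply] at h0
      rw [mul_inv_eq_iff_eq_mul] at h1
      exact h1.symm
    · intro hg
      refine MulEquiv.ext fun m => Subtype.ext ?_
      show g * (m : Q) * g⁻¹ = m
      rw [← hg m m.2, mul_inv_cancel_right]
  rw [← hker, Subgroup.index_ker, ← Nat.card_perm]
  exact (Subgroup.card_le_card_group _).trans
    (Nat.card_le_card_of_injective (fun σ : MulAut M => σ.toEquiv) fun σ τ h => MulEquiv.ext (Equiv.ext_iff.1 h))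

variable {p : ℕ} [hp : Fact p.Prime]

/-- A group of exponent dividing `p ^ 2` centralising the small normal subgroups is abelian. -/
theorem comm_eq_bot_of_centralizes {Q : Type u} [Group Q] [Finite Q] (hQ : IsPGroup p Q) (α : MulAut Q)
    (hα : α ^ p = 1) {n : ℕ} (hfix : Nat.card (fixed α) ≤ p ^ n) (N : Subgroup Q) (hN : N.Normal)
    (hinv : Invariant α N) (hexp : ∀ a ∈ N, (a ^ p) ^ p = 1)
    (hcent : ∀ M : Subgroup Q, M.Normal → Nat.card M ≤ (p ^ n) ^ (2 * p) →
      N ≤ Subgroup.centralizer (M : Set Q)) :
    ⁅N, N⁆ = ⊥ := by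
  induction N using WellFoundedLT.induction with
  | _ N ih =>
    rcases eq_or_ne N ⊥ with rfl | hne
    · exact Subgroup.commutator_bot_left _
    have hbotinv : Invariant α (⊥ : Subgroup Q) := fun x (hx : x = 1) => by
      show α x = 1
      rw [hx, map_one]
    obtain ⟨M, ⟨hMn, hMi, hMN⟩, hmax⟩ := Set.exists_max_image
      {M : Subgroup Q | M.Normal ∧ Invariant α M ∧ M < N} (fun M => Nat.card M) (Set.toFinite _)
      ⟨⊥, inferInstance, hbotinv, bot_lt_iff_ne_bot.2 hne⟩
    haveI := hMn
    have hmax' : ∀ D : Subgroup Q, D.Normal → Invariant α D → M < D → D ≤ N → D = N := by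
      intro D hDn hDi hMD hDN
      by_contra hDne
      exact hMD.ne (Subgroup.eq_of_le_of_card_ge hMD.le (hmax D ⟨hDn, hDi, lt_of_le_of_ne hDN hDne⟩))
    have hMab := ih M hMN hMn hMi (fun a ha => hexp a (hMN.le ha))
      (fun M' h1 h2 => hMN.le.trans (hcent M' h1 h2))
    rw [Subgroup.commutator_eq_bot_iff_le_centralizer] at hMab
    have hMcard : Nat.card M ≤ (p ^ n) ^ (2 * p) :=
      (card_le_fixed_pow_two (fun a b => Subtype.ext (Subgroup.mem_centralizer_iff.1 (hMab b.2) a a.2))
        (fun a => Subtype.ext (hexp a (hMN.le a.2))) (restrictEquiv α M hMi)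
        (restrictEquiv_pow_eq_one _ _ hα)).trans
        (Nat.pow_le_pow_left ((card_fixed_restrict_le α M hMi).trans hfix) _)
    have hNC := hcent M hMn hMcard
    -- `N / M` is central
    have hcentral : ⁅N, (⊤ : Subgroup Q)⁆ ≤ M := by
      have hn : (⁅N, (⊤ : Subgroup Q)⁆ ⊔ M).Normal := inferInstance
      have hi : Invariant α (⁅N, (⊤ : Subgroup Q)⁆ ⊔ M) := by
        refine Invariant.sup ?_ hMi
        intro x hx
        have h : (⁅N, (⊤ : Subgroup Q)⁆).map α.toMonoidHom ≤ ⁅N, (⊤ : Subgroup Q)⁆ := by
          rw [Subgroup.map_commutator]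
          exact Subgroup.commutator_mono (Subgroup.map_le_iff_le_comap.2 fun y hy => hinv y hy) le_top
        exact h ⟨x, hx, rfl⟩
      rcases eq_or_lt_of_le (le_sup_right : M ≤ ⁅N, (⊤ : Subgroup Q)⁆ ⊔ M) with heq | hlt
      · exact le_sup_left.trans heq.ge
      · have h := hmax' _ hn hi hlt (sup_le (Subgroup.commutator_le_left _ _) hMN.le)
        exact absurd (le_of_le_sup_commutator hQ (B := M) (h.ge.trans (sup_comm _ _).le)) hMN.not_ge
    -- a fixed point modulo `M`
    let a := restrictEquiv α N hinv
    have hM'i : Invariant a (M.subgroupOf N) := fun x hx =>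
      Subgroup.mem_subgroupOf.2 (hMi _ (Subgroup.mem_subgroupOf.1 hx))
    let qa := quotientEquiv a (M.subgroupOf N) hM'i
    have hnf : ¬ ∀ q, qa q = q → q = 1 := by
      intro hfpf
      have hqa : qa ^ p = 1 := quotientEquiv_pow_eq_one _ _ (restrictEquiv_pow_eq_one _ _ hα)
      have hcop := LieGraded.coprime_card_of_fpf qa hqa hfpf
      obtain ⟨k, hk⟩ := ((hQ.to_subgroup N).to_quotient (M.subgroupOf N)).exists_card_eq
      rw [hk] at hcop
      rcases Nat.eq_zero_or_pos k with rfl | hkpos
      · rw [pow_zero] at hk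
        exact hMN.not_ge (Subgroup.relIndex_eq_one.1 hk)
      · exact hp.out.ne_one ((Nat.coprime_self p).1
          ((Nat.coprime_pow_left_iff hkpos p p).1 hcop))
    push Not at hnf
    obtain ⟨q, hq, hq1⟩ := hnf
    obtain ⟨⟨z, hz⟩, rfl⟩ := QuotientGroup.mk_surjective q
    rw [Ne, QuotientGroup.eq_one_iff, Subgroup.mem_subgroupOf] at hq1
    have hzfix : z⁻¹ * α z ∈ M := Subgroup.mem_subgroupOf.1 (QuotientGroup.eq.1 hq.symm)
    set D := M ⊔ Subgroup.zpowers z with hD
    have hDN : D ≤ N := sup_le hMN.le (Subgroup.zpowers_le.2 hz)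
    have hDn : D.Normal := ⟨fun d hd g => by
      have h1 : ⁅d, g⁆ ∈ M := hcentral (Subgroup.commutator_mem_commutator (hDN hd) (Subgroup.mem_top g))
      have h2 : g * d * g⁻¹ = ⁅d, g⁆⁻¹ * d := by rw [commutatorElement_def]; group
      rw [h2]
      exact mul_mem ((le_sup_left : M ≤ D) (inv_mem h1)) hd⟩
    have hDi : Invariant α D := by
      intro x hx
      have h : D.map α.toMonoidHom ≤ D := by
        rw [hD, Subgroup.map_sup, MonoidHom.map_zpowers]
        refine sup_le ((show M.map α.toMonoidHom ≤ M from Subgroup.map_le_iff_le_comap.2 fun y hy => hMi y hy).trans le_sup_left) ?_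
        rw [Subgroup.zpowers_le]
        show α z ∈ D
        rw [← mul_inv_cancel_left z (α z)]
        exact mul_mem ((le_sup_right : Subgroup.zpowers z ≤ D) (Subgroup.mem_zpowers z))
          ((le_sup_left : M ≤ D) hzfix)
      exact h ⟨x, hx, rfl⟩
    have hMD : M < D := lt_of_le_of_ne le_sup_left fun h =>
      hq1 (h.ge ((le_sup_right : Subgroup.zpowers z ≤ D) (Subgroup.mem_zpowers z)))
    have hDN' := hmax' D hDn hDi hMD hDN
    rw [Subgroup.commutator_eq_bot_iff_le_centralizer]
    nth_rw 1 [← hDN']
    refine sup_le ?_ ?_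
    · intro m hm
      exact Subgroup.mem_centralizer_iff.2 fun x hx => (Subgroup.mem_centralizer_iff.1 (hNC hx) m hm).symm
    · rw [Subgroup.zpowers_le, Subgroup.mem_centralizer_iff, ← hDN']
      intro x hx
      have h : D ≤ Subgroup.centralizer ({z} : Set Q) := by
        refine sup_le (fun m hm => ?_) (Subgroup.zpowers_le.2 ?_)
        · exact Subgroup.mem_centralizer_singleton_iff.2 (Subgroup.mem_centralizer_iff.1 (hNC hz) m hm)
        · exact Subgroup.mem_centralizer_singleton_iff.2 rfl
      exact Subgroup.mem_centralizer_singleton_iff.1 (h hx)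

/-- The bound for the index in the first step. -/
def smallIndex (p n : ℕ) : ℕ := ((p ^ n) ^ (2 * p)).factorial

/-- The bound for the derived length of a `p`-group. -/
def pgroupBound (p n : ℕ) : ℕ := (p ^ n) ^ p * segLen p n + smallIndex p n

/-- The derived length of a `p`-group with an almost regular automorphism of order `p`. -/
theorem derivedSeries_pgroup_eq_bot {P : Type u} [Group P] [Finite P] (hP : IsPGroup p P) (α : MulAut P)
    (hα : α ^ p = 1) {n : ℕ} (hfix : Nat.card (fixed α) ≤ p ^ n) :
    derivedSeries P (pgroupBound p n) = ⊥ := by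
  set b := smallIndex p n with hb
  set V : Subgroup P := ⨅ T : {T : Subgroup P // T.Normal ∧ T.index ≤ b}, (T : Subgroup P) with hV
  have hVn : V.Normal := ⟨fun x hx g => by
    rw [hV, Subgroup.mem_iInf] at hx ⊢
    exact fun T => T.2.1.conj_mem x (hx T) g⟩
  have hVle : ∀ T : Subgroup P, T.Normal → T.index ≤ b → V ≤ T := fun T h1 h2 =>
    iInf_le_of_le ⟨T, h1, h2⟩ le_rfl
  have hVinv : Invariant α V := fun x hx => by
    rw [hV, Subgroup.mem_iInf]
    rintro ⟨T, hTn, hTi⟩
    have hindex : (T.comap α.toMonoidHom).index = T.index :=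
      Subgroup.index_comap_of_surjective T α.surjective
    exact hVle _ (hTn.comap _) (hindex.le.trans hTi) hx
  have hDV : derivedSeries P b ≤ V := le_iInf fun T => by
    haveI := T.2.1
    haveI : Group.IsNilpotent (P ⧸ (T : Subgroup P)) := (hP.to_quotient _).isNilpotent
    exact derivedSeries_le_of_index_le _ T.2.2
  haveI := hVn
  haveI hWn : (pw p V (eps p)).Normal := pw_normal V _
  set W := pw p V (eps p) with hW
  have hWinv : Invariant α W := fun x hx => by
    have h : W.map α.toMonoidHom ≤ W := by
      rw [hW, map_pw]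
      exact pw_mono (show V.map α.toMonoidHom ≤ V from Subgroup.map_le_iff_le_comap.2 fun y hy => hVinv y hy) _
    exact h ⟨x, hx, rfl⟩
  have hexp : ∀ a ∈ V.map (QuotientGroup.mk' W), (a ^ p) ^ p = 1 := by
    rintro _ ⟨x, hx, rfl⟩
    rw [← pow_mul, ← map_pow, QuotientGroup.mk'_apply, QuotientGroup.eq_one_iff]
    have h2 := pow_pow_mem_pw (p := p) (i := 0) hx 2
    rw [pow_two] at h2
    refine pw_antitone V ?_ h2
    unfold eps
    split <;> omega
  have hqinv : Invariant (quotientEquiv α W hWinv) (V.map (QuotientGroup.mk' W)) := by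
    rintro _ ⟨x, hx, rfl⟩
    exact ⟨α x, hVinv x hx, rfl⟩
  have hab := comm_eq_bot_of_centralizes (hP.to_quotient W) (quotientEquiv α W hWinv)
    (quotientEquiv_pow_eq_one _ _ hα) ((card_fixed_quotient_le α W hWinv).trans hfix)
    (V.map (QuotientGroup.mk' W)) (Subgroup.Normal.map hVn _ (QuotientGroup.mk'_surjective W)) hqinv hexp
    (fun M hMn hMc => by
      haveI := hMn
      rw [Subgroup.map_le_iff_le_comap]
      refine hVle _ inferInstance ?_
      rw [Subgroup.index_comap_of_surjective _ (QuotientGroup.mk'_surjective W)]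
      exact (index_centralizer_le M).trans (Nat.factorial_le hMc))
  rw [← Subgroup.map_commutator, map_mk'_eq_bot] at hab
  have hVtop : ∀ i, (pw p (⊤ : Subgroup ↥V) i).map V.subtype = pw p V i := fun i => by
    rw [map_pw, ← MonoidHom.range_eq_map, Subgroup.range_subtype]
  have hVPE : PE p (⊤ : Subgroup ↥V) := by
    refine ⟨inferInstance, ?_⟩
    rw [← Subgroup.map_le_map_iff_of_injective V.subtype_injective, Subgroup.map_commutator, hVtop,
      ← MonoidHom.range_eq_map, Subgroup.range_subtype]
    exact hab
  have hfixV := (card_fixed_restrict_le α V hVinv).trans hfix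
  have hVbot := derivedSeries_eq_bot_of_index_le n ((p ^ n) ^ p) ↥V (hP.to_subgroup V) hVPE
    (restrictEquiv α V hVinv) (restrictEquiv_pow_eq_one _ _ hα) hfixV
    ((index_pw_one_le hVPE _ (restrictEquiv_pow_eq_one _ _ hα)).trans (Nat.pow_le_pow_left hfixV p))
  exact derivedSeries_add_eq_bot V hDV hVbot

end Cfsg.Agent.AlmostRegular
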