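import Cfsg.Agent.Lib.AlmostRegular.Lie
import Cfsg.Agent.Lib.Powerful.Basic

/-!
# Powerful groups with an almost regular automorphism of prime order

`derivedSeries_eq_bot_of_index_le`: a powerful `p`-group with an automorphism of order `p` fixing at most `p ^ n`
points and `|R : R^p| ≤ B` has derived length at most `B * segLen p n`.
-/

set_option autoImplicit false

namespace Cfsg.Agent.AlmostRegular

open LieGraded Powerful

universe u

/-- If `G^(a) ≤ U` then `G^(b + a) ≤ U^(b)`. -/
theorem derivedSeries_add_le {G : Type u} [Group G] (U : Subgroup G) {a : ℕ} (h : derivedSeries G a ≤ U)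
    (b : ℕ) : derivedSeries G (b + a) ≤ (derivedSeries U b).map U.subtype := by
  induction b with
  | zero => rwa [Nat.zero_add, derivedSeries_zero, ← MonoidHom.range_eq_map, Subgroup.range_subtype]
  | succ b ih =>
    rw [Nat.succ_add, derivedSeries_succ, derivedSeries_succ, Subgroup.map_commutator]
    exact Subgroup.commutator_mono ih ih

theorem derivedSeries_add_eq_bot {G : Type u} [Group G] (U : Subgroup G) {a b : ℕ} (h : derivedSeries G a ≤ U)
    (hU : derivedSeries U b = ⊥) : derivedSeries G (b + a) = ⊥ := by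
  have h1 := derivedSeries_add_le U h b
  rwa [hU, Subgroup.map_bot, le_bot_iff] at h1

/-- The iterated powers of `R` are invariant. -/
theorem invariant_pw {R : Type u} [Group R] [Finite R] (p : ℕ) (α : MulAut R) (i : ℕ) :
    Invariant α (pw p (⊤ : Subgroup R) i) := fun x hx => by
  have h : (pw p (⊤ : Subgroup R) i).map α.toMonoidHom = pw p (⊤ : Subgroup R) i := by
    rw [map_pw, Subgroup.map_top_of_surjective _ α.surjective]
  exact h.le ⟨x, hx, rfl⟩

/-- The length of a segment. -/
def segLen (p n : ℕ) : ℕ :=
  max ((2 ^ kreknin p + 1) * (2 * lieExp p n + 4) + 2 ^ kreknin p) (kreknin p + 2 * (2 ^ kreknin p + 1))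

variable {R : Type u} [Group R] [Finite R] {p : ℕ} [hp : Fact p.Prime]
variable (hR : IsPGroup p R) (htop : PE p (⊤ : Subgroup R))
include hR htop

theorem derivedSeries_le_pw_doubling (k : ℕ) :
    derivedSeries R k ≤ pw p (⊤ : Subgroup R) (2 ^ k - 1) := by
  induction k with
  | zero => exact le_top
  | succ k ih =>
    rw [derivedSeries_succ]
    refine (Subgroup.commutator_mono ih ih).trans ((comm_layer_le hR htop _ _).trans (pw_antitone _ ?_))
    have := one_le_eps p
    have := Nat.one_le_two_pow (n := k)
    rw [pow_succ]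
    omega

theorem pw_derivedSeries_le (m k : ℕ) :
    pw p (derivedSeries R k) (2 ^ k * m) ≤
      (derivedSeries ↥(pw p (⊤ : Subgroup R) m) k).map (pw p (⊤ : Subgroup R) m).subtype := by
  induction k with
  | zero =>
    rw [pow_zero, one_mul, derivedSeries_zero, derivedSeries_zero, ← MonoidHom.range_eq_map,
      Subgroup.range_subtype]
  | succ k ih =>
    have hD := PE.derivedSeries hR htop k
    rw [derivedSeries_succ, derivedSeries_succ, Subgroup.map_commutator,
      show 2 ^ (k + 1) * m = 2 ^ k * m + 2 ^ k * m by rw [pow_succ, mul_two, add_mul],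
      ← commutator_pw hR hD hD htop]
    exact Subgroup.commutator_mono ih ih

theorem gam_map_le (m i : ℕ) :
    (gam ↥(pw p (⊤ : Subgroup R) m) i).map (pw p (⊤ : Subgroup R) m).subtype ≤
      pw p (⊤ : Subgroup R) ((i + 1) * m + i) := by
  induction i with
  | zero =>
    rw [zero_add, one_mul, add_zero]
    exact Subgroup.map_subtype_le _
  | succ i ih =>
    rw [← gam_comm_top, Subgroup.map_commutator, ← MonoidHom.range_eq_map, Subgroup.range_subtype]
    refine (Subgroup.commutator_mono ih le_rfl).trans ((comm_layer_le hR htop _ _).trans (pw_antitone _ ?_))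
    have := one_le_eps p
    rw [add_mul (i + 1) 1 m, one_mul]
    omega

variable {e : ℕ}
  (hconst : ∀ i < e, (pw p (⊤ : Subgroup R) (i + 1)).relIndex (pw p (⊤ : Subgroup R) i) =
    (pw p (⊤ : Subgroup R) 1).relIndex (pw p (⊤ : Subgroup R) 0))
include hconst

theorem mem_of_pow_mem (s : ℕ) : ∀ (t : ℕ) (x : R), t ≤ e → x ^ p ^ s ∈ pw p (⊤ : Subgroup R) t →
    x ∈ pw p (⊤ : Subgroup R) (t - s) := by
  induction s with
  | zero => intro t x _ hx; rwa [pow_zero, pow_one] at hx
  | succ s ih =>
    intro t x ht hx
    rw [pow_succ', pow_mul] at hx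
    have hxp := ih t (x ^ p) ht hx
    suffices h : ∀ i, i ≤ t - (s + 1) → x ∈ pw p (⊤ : Subgroup R) i from h _ le_rfl
    intro i
    induction i with
    | zero => intro _; exact Subgroup.mem_top x
    | succ i ihi =>
      intro hi
      refine (relIndex_succ_le hR htop i).2 ?_ x (ihi (by omega)) (pw_antitone _ (by omega) hxp)
      rw [hconst i (by omega), hconst (i + 1) (by omega)]

theorem derivedSeries_kreknin_le (α : MulAut R) (hα : α ^ p = 1) {n : ℕ}
    (hfix : Nat.card (fixed α) ≤ p ^ n) {m : ℕ} (hm : (2 ^ kreknin p + 1) * m + 2 ^ kreknin p ≤ e) :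
    derivedSeries R (kreknin p) ≤ pw p (⊤ : Subgroup R) (m + 2 ^ kreknin p - lieExp p n) := by
  set K := kreknin p with hK
  set c := 2 ^ K with hc
  intro x hx
  have hmem := pow_pow_mem_pw (p := p) (N := derivedSeries R K) (i := 0) hx (c * m)
  rw [zero_add] at hmem
  obtain ⟨y, hy, hyx⟩ := pw_derivedSeries_le hR htop m K hmem
  have h1 := pow_mem_gam_of_mem_derivedSeries (hR.to_subgroup _)
    (restrictEquiv α _ (invariant_pw p α m)) (restrictEquiv_pow_eq_one _ _ hα)
    ((card_fixed_restrict_le α _ (invariant_pw p α m)).trans hfix) hy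
  have h2 := gam_map_le hR htop m c ⟨_, h1, rfl⟩
  rw [map_pow, hyx, ← pow_mul, ← pow_add] at h2
  refine pw_antitone _ ?_ (mem_of_pow_mem hR htop hconst _ _ x hm h2)
  rw [add_mul, one_mul]
  omega

/-- A long segment with constant layers is crossed in `segLen p n` steps. -/
theorem derivedSeries_segLen_le (α : MulAut R) (hα : α ^ p = 1) {n : ℕ}
    (hfix : Nat.card (fixed α) ≤ p ^ n) : derivedSeries R (segLen p n) ≤ pw p (⊤ : Subgroup R) e := by
  set K := kreknin p with hK
  set c := 2 ^ K with hc
  set N := lieExp p n with hN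
  have hdef : segLen p n = max ((c + 1) * (2 * N + 4) + c) (K + 2 * (c + 1)) := rfl
  rcases le_or_gt e (segLen p n) with he | he
  · refine (derivedSeries_le_pw_doubling hR htop _).trans (pw_antitone _ ?_)
    have := Nat.lt_two_pow_self (n := segLen p n)
    omega
  · set m := (e - c) / (c + 1) with hm
    set s := m + c - N with hs
    have hm1 : m * (c + 1) ≤ e - c := Nat.div_mul_le_self _ _
    have hm2 : e - c < (m + 1) * (c + 1) := by
      rw [hm, mul_comm]
      exact Nat.lt_mul_div_succ _ (Nat.succ_pos c)
    have hm3 : 2 * N + 4 ≤ m := by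
      rw [hm, Nat.le_div_iff_mul_le (Nat.succ_pos c), Nat.succ_eq_add_one, mul_comm]
      omega
    have hstep : ∀ j, derivedSeries R (K + j) ≤ pw p (⊤ : Subgroup R) (2 ^ j * s) := by
      intro j
      induction j with
      | zero =>
        rw [pow_zero, one_mul]
        exact derivedSeries_kreknin_le hR htop hconst α hα hfix (show (c + 1) * m + c ≤ e by rw [mul_comm]; omega)
      | succ j ih =>
        rw [← add_assoc, derivedSeries_succ]
        refine (Subgroup.commutator_mono ih ih).trans
          ((comm_layer_le hR htop _ _).trans (pw_antitone _ ?_))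
        rw [pow_succ, mul_comm _ 2, mul_assoc]
        omega
    refine (derivedSeries_antitone R (show K + 2 * (c + 1) ≤ segLen p n by omega)).trans
      ((hstep _).trans (pw_antitone _ ?_))
    refine le_trans ?_ (Nat.mul_le_mul_right s (Nat.lt_two_pow_self (n := 2 * (c + 1))).le)
    have h4 : m + 2 ≤ 2 * s := by omega
    calc e ≤ (m + 1) * (c + 1) + c := by omega
      _ ≤ (m + 2) * (c + 1) := by rw [add_mul m 2, add_mul m 1]; omega
      _ ≤ 2 * s * (c + 1) := Nat.mul_le_mul_right _ h4
      _ = _ := by ring

omit hconst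

omit hR in
theorem index_pw_one_le (α : MulAut R) (hα : α ^ p = 1) :
    (pw p (⊤ : Subgroup R) 1).index ≤ Nat.card (fixed α) ^ p := by
  haveI := pw_normal (p := p) (⊤ : Subgroup R) 1
  rw [Subgroup.index_eq_card]
  refine (card_le_fixed_pow (fun a b => ?_) (fun a => ?_) (quotientEquiv α _ (invariant_pw p α 1))
    (quotientEquiv_pow_eq_one _ _ hα)).trans (Nat.pow_le_pow_left (card_fixed_quotient_le _ _ _) p)
  · obtain ⟨x, rfl⟩ := QuotientGroup.mk'_surjective _ a
    obtain ⟨y, rfl⟩ := QuotientGroup.mk'_surjective _ b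
    rw [← commutatorElement_eq_one_iff_mul_comm, ← map_commutatorElement, QuotientGroup.mk'_apply,
      QuotientGroup.eq_one_iff]
    exact pw_antitone _ (one_le_eps p)
      (htop.comm (Subgroup.commutator_mem_commutator (Subgroup.mem_top x) (Subgroup.mem_top y)))
  · obtain ⟨x, rfl⟩ := QuotientGroup.mk'_surjective _ a
    rw [← map_pow, QuotientGroup.mk'_apply, QuotientGroup.eq_one_iff]
    exact pow_mem_pw_succ (N := ⊤) (i := 0) (Subgroup.mem_top x)

omit hR htop

/-- The derived length of a powerful group with an almost regular automorphism of order `p`. -/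
theorem derivedSeries_eq_bot_of_index_le (n B : ℕ) : ∀ (R : Type u) [Group R] [Finite R],
    IsPGroup p R → PE p (⊤ : Subgroup R) → ∀ α : MulAut R, α ^ p = 1 → Nat.card (fixed α) ≤ p ^ n →
      (pw p (⊤ : Subgroup R) 1).index ≤ B → derivedSeries R (B * segLen p n) = ⊥ := by
  induction B with
  | zero =>
    intro R _ _ _ _ _ _ _ hB
    exact absurd (Nat.le_zero.1 hB) Subgroup.index_ne_zero_of_finite
  | succ B ih =>
    intro R _ _ hR htop α hα hfix hB
    classical
    set L : ℕ → ℕ := fun i => (pw p (⊤ : Subgroup R) (i + 1)).relIndex (pw p (⊤ : Subgroup R) i) with hL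
    have hanti : ∀ i j, i ≤ j → L j ≤ L i := fun i j hij => by
      induction hij with
      | refl => exact le_rfl
      | step _ ihj => exact le_trans (relIndex_succ_le hR htop _).1 ihj
    have hL0 : L 0 = (pw p (⊤ : Subgroup R) 1).index := by
      show (pw p (⊤ : Subgroup R) 1).relIndex ⊤ = _
      rw [Subgroup.relIndex_top_right]
    rcases lt_or_ge (L 0) 2 with h2 | h2
    · have h1 : (pw p (⊤ : Subgroup R) 1).index = 1 := by
        have := Subgroup.index_ne_zero_of_finite (H := pw p (⊤ : Subgroup R) 1)
        omega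
      have hbot : (⊤ : Subgroup R) = ⊥ :=
        eq_bot_of_pw_succ_eq hR htop (i := 0) (Subgroup.index_eq_one.1 h1)
      exact le_bot_iff.1 (hbot ▸ le_top)
    have hex : ∃ e, L e < L 0 := by
      by_contra hno
      push Not at hno
      have hcard : ∀ i, 2 ^ i * Nat.card (pw p (⊤ : Subgroup R) i) ≤ Nat.card R := by
        intro i
        induction i with
        | zero => simp
        | succ i ihi =>
          refine le_trans ?_ ihi
          have hmul := Subgroup.card_mul_index ((pw p (⊤ : Subgroup R) (i + 1)).subgroupOf (pw p ⊤ i))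
          rw [Nat.card_congr (Subgroup.subgroupOfEquivOfLe (pw_antitone _ (Nat.le_succ i))).toEquiv] at hmul
          rw [← hmul, pow_succ, mul_assoc, mul_comm 2]
          exact Nat.mul_le_mul_left _ (Nat.mul_le_mul_left _ (h2.trans (hno i)))
      have h1 := hcard (Nat.card R)
      have h3 := Nat.lt_two_pow_self (n := Nat.card R)
      have h4 : 0 < Nat.card (pw p (⊤ : Subgroup R) (Nat.card R)) := Nat.card_pos
      exact absurd (h1.trans_lt h3) (not_lt.2 (Nat.le_mul_of_pos_right _ h4))
    set e := Nat.find hex with he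
    have hlt : L e < L 0 := Nat.find_spec hex
    have hconst : ∀ i < e, L i = L 0 := fun i hi =>
      le_antisymm (hanti 0 i (Nat.zero_le i)) (not_lt.1 (Nat.find_min hex hi))
    have hUle := derivedSeries_segLen_le hR htop (e := e) hconst α hα hfix
    set U := pw p (⊤ : Subgroup R) e with hU
    have hUtop : ∀ i, (pw p (⊤ : Subgroup ↥U) i).map U.subtype = pw p (⊤ : Subgroup R) (e + i) := fun i => by
      rw [map_pw, ← MonoidHom.range_eq_map, Subgroup.range_subtype, hU, pw_pw]
    have hUPE : PE p (⊤ : Subgroup ↥U) := by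
      refine ⟨inferInstance, ?_⟩
      rw [← Subgroup.map_le_map_iff_of_injective U.subtype_injective, Subgroup.map_commutator, hUtop,
        ← MonoidHom.range_eq_map, Subgroup.range_subtype, ← pw_pw, ← hU]
      exact (Subgroup.commutator_mono le_rfl le_top).trans (htop.pw hR htop e).comm
    have hUB : (pw p (⊤ : Subgroup ↥U) 1).index ≤ B := by
      rw [← Subgroup.relIndex_top_right, ← Subgroup.relIndex_map_map_of_injective _ _ U.subtype_injective,
        hUtop, ← MonoidHom.range_eq_map, Subgroup.range_subtype]
      have : L e ≤ B := by omega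
      exact this
    have hUbot := ih ↥U (hR.to_subgroup U) hUPE (restrictEquiv α U (invariant_pw p α e))
      (restrictEquiv_pow_eq_one _ _ hα) ((card_fixed_restrict_le α U _).trans hfix) hUB
    rw [Nat.succ_mul]
    exact derivedSeries_add_eq_bot U hUle hUbot

end Cfsg.Agent.AlmostRegular
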